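import Groth.Agent.Lib.ExchangeFP29.Algebra

/-!
# Flatness of a cokernel whose fibrewise kernel is a line spanned by a global vector
-/

set_option autoImplicit false
set_option linter.style.haveILetI false
universe u

open scoped TensorProduct

namespace Groth.Agent.H25.PushOne.Algebra

variable {A : Type u} [CommRing A] {M N : Type u} [AddCommGroup M] [Module A M] [AddCommGroup N]
  [Module A N]

/-- If at every maximal ideal the kernel of the fibre of `l` is the line spanned by a global element
of the kernel, then the cokernel of `l` is projective. -/
theorem projective_coker_of_line [Module.Finite A M] [Module.Finite A N] [Module.Projective A N]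
    (l : M →ₗ[A] N) (c : M) (hc : l c = 0)
    (h : ∀ (m : Ideal A) [m.IsMaximal], (1 : m.ResidueField) ⊗ₜ[A] c ≠ 0 ∧
      Module.finrank m.ResidueField (LinearMap.ker (l.baseChange m.ResidueField)) = 1) :
    Module.Projective A (N ⧸ LinearMap.range l) := by
  haveI : Module.FinitePresentation A N := Module.finitePresentation_of_projective A N
  have hfg : (LinearMap.range l).FG := by
    rw [LinearMap.range_eq_map]
    exact (Module.Finite.fg_top (R := A) (M := M)).map l
  haveI : Module.FinitePresentation A (N ⧸ LinearMap.range l) :=
    Module.finitePresentation_of_surjective (LinearMap.range l).mkQ (Submodule.mkQ_surjective _)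
      (by rwa [Submodule.ker_mkQ])
  let W : Submodule A M := Submodule.span A {c}
  let l' : M ⧸ W →ₗ[A] N := W.liftQ l ((Submodule.span_singleton_le_iff_mem _ _).2 hc)
  have hr : LinearMap.range l' = LinearMap.range l := Submodule.range_liftQ _ _ _
  suffices h' : Module.Projective A (N ⧸ LinearMap.range l') from
    Module.Projective.of_equiv (Submodule.quotEquivOfEq _ _ hr)
  haveI : Module.FinitePresentation A (N ⧸ LinearMap.range l') :=
    Module.finitePresentation_of_surjective (LinearMap.range l').mkQ (Submodule.mkQ_surjective _)
      (by rw [Submodule.ker_mkQ, hr]; exact hfg)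
  refine Module.projective_of_localization_maximal fun m hm => ?_
  haveI := hm.isPrime
  let L := Localization.AtPrime m
  let k := IsLocalRing.ResidueField L
  have hinj : Function.Injective (l'.baseChange m.ResidueField) := by
    obtain ⟨hne, hdim⟩ := h m
    rw [injective_iff_map_eq_zero]
    intro ξ hξ
    obtain ⟨η, rfl⟩ := LinearMap.lTensor_surjective m.ResidueField (Submodule.mkQ_surjective W) ξ
    have hη : η ∈ LinearMap.ker (l.baseChange m.ResidueField) := by
      rw [LinearMap.mem_ker]
      refine Eq.trans ?_ hξ
      show l.lTensor _ η = l'.lTensor _ (W.mkQ.lTensor _ η)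
      rw [← LinearMap.lTensor_comp_apply, show l' ∘ₗ W.mkQ = l from W.liftQ_mkQ l _]
    have hce : (1 : m.ResidueField) ⊗ₜ[A] c ∈ LinearMap.ker (l.baseChange m.ResidueField) := by
      rw [LinearMap.mem_ker, LinearMap.baseChange_tmul, hc, TensorProduct.tmul_zero]
    obtain ⟨r, hr'⟩ := (finrank_eq_one_iff_of_nonzero' (⟨_, hce⟩ : LinearMap.ker (l.baseChange m.ResidueField))
      (fun e => hne (congrArg Subtype.val e))).1 hdim ⟨η, hη⟩
    have h1 : η = r ⊗ₜ[A] c := by
      rw [← show r • ((1 : m.ResidueField) ⊗ₜ[A] c) = η from congrArg Subtype.val hr',
        TensorProduct.smul_tmul', smul_eq_mul, mul_one]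
    rw [h1, LinearMap.lTensor_tmul, Submodule.mkQ_apply,
      (Submodule.Quotient.mk_eq_zero W).2 (Submodule.mem_span_singleton_self c), TensorProduct.tmul_zero]
  have hkL : Function.Injective ((l'.baseChange L).lTensor k) := by
    have hsq : ∀ z, TensorProduct.AlgebraTensorModule.cancelBaseChange A L L k N
        ((l'.baseChange L).lTensor k z) =
        l'.lTensor k (TensorProduct.AlgebraTensorModule.cancelBaseChange A L L k (M ⧸ W) z) := by
      intro z
      induction z using TensorProduct.induction_on with
      | zero => simp
      | tmul a w =>
        induction w using TensorProduct.induction_on with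
        | zero => simp
        | tmul b x => simp
        | add a c ha hc => simp only [TensorProduct.tmul_add, map_add, ha, hc]
      | add a c ha hc => simp only [map_add, ha, hc]
    intro a b hab
    apply (TensorProduct.AlgebraTensorModule.cancelBaseChange A L L k (M ⧸ W)).injective
    apply hinj
    show l'.lTensor k _ = l'.lTensor k _
    rw [← hsq, ← hsq, hab]
  haveI : Module.Free L (L ⊗[A] N) := Module.free_of_flat_of_isLocalRing
  have hfree : Module.Free L (L ⊗[A] (N ⧸ LinearMap.range l')) :=
    Module.free_of_lTensor_residueField_injective
      (l'.baseChange L) ((LinearMap.range l').mkQ.baseChange L)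
      (LinearMap.lTensor_surjective L (Submodule.mkQ_surjective _))
      (lTensor_exact L (LinearMap.exact_map_mkQ_range l') (Submodule.mkQ_surjective _)) hkL
  exact Module.Projective.of_equiv
    (LocalizedModule.equivTensorProduct m.primeCompl (N ⧸ LinearMap.range l')).symm

end Groth.Agent.H25.PushOne.Algebra
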