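import Groth.Agent.H25.Node.AtWorst
import Groth.Agent.H2.Rigid.H0
import Groth.Agent.Lib.Curves.GlobalSections
import Groth.Agent.Lib.Curves.LES
import Groth.Agent.Lib.TensorMod.Colimit
import Groth.Agent.Lib.TensorMod.LocFree

/-!
# Global functions on the fibres of nodal families
-/

set_option autoImplicit false
set_option linter.style.haveILetI false
universe u

open CategoryTheory CategoryTheory.Limits AlgebraicGeometry TopologicalSpace Opposite
open Groth.Agent Groth.Agent.Lib

namespace Groth.Agent.H25.PushOne.Fibre

/-- Only constants on a proper geometrically connected and reduced scheme over a field. -/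
theorem finrank_h0 (k : Type u) [Field k] (X : Scheme.{u}) [X.Over (Spec (CommRingCat.of k))]
    [IsProper (X ↘ Spec (CommRingCat.of k))] [GeometricallyConnected (X ↘ Spec (CommRingCat.of k))]
    [GeometricallyReduced (X ↘ Spec (CommRingCat.of k))] :
    Module.finrank k (Coh.HH X (Coh.structureModule X) 0) = 1 := by
  let c := X ↘ Spec (CommRingCat.of k)
  haveI : ConnectedSpace X := GeometricallyConnected.geometrically_connectedSpace (f := c) (𝟙 _) (𝟙 X) c
    (IsPullback.of_horiz_isIso ⟨by simp⟩)
  have hsurj : Function.Surjective c.appTop.hom :=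
    (H2.Rigid.H0.of_geometrically c).isPullback (pt := 𝟙 _) (p₁ := 𝟙 X) (p₂ := c)
      (IsPullback.of_horiz_isIso ⟨by simp⟩)
  letI := Curves.GlobalSections.secModule k (Coh.structureModule X)
  rw [(Curves.GlobalSections.h0Linear k (Coh.structureModule X)).finrank_eq]
  letI : Algebra k Γ(X, ⊤) := RingHom.toAlgebra (S := Γ(X, ⊤)) (Coh.toGlobal c)
  have hs : Function.Surjective (algebraMap k Γ(X, ⊤)) :=
    hsurj.comp (Scheme.ΓSpecIso (CommRingCat.of k)).commRingCatIsoToRingEquiv.symm.surjective
  haveI : Nonempty (⊤ : X.Opens) := ⟨⟨Classical.arbitrary X, trivial⟩⟩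
  exact (Module.finrank_self k ▸ (AlgEquiv.ofBijective (Algebra.ofId k Γ(X, ⊤))
    ⟨(algebraMap k Γ(X, ⊤)).injective, hs⟩).toLinearEquiv.finrank_eq).symm

variable {X S : Scheme.{u}} (f : X ⟶ S)

/-- The fibres of a proper nodal family with connected geometric fibres have `h⁰ = 1`. -/
theorem fiberRank_zero [IsProper f] [GeometricallyConnected f] (hf : Curv2.IsNodalFamily f) (y : S) :
    CohIII.fiberRank f (Coh.structureModule X) 0 y = 1 := by
  letI : (f.fiber y).Over (Spec (CommRingCat.of (S.residueField y))) := ⟨f.fiberToSpecResidueField y⟩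
  haveI : IsProper ((f.fiber y) ↘ Spec (CommRingCat.of (S.residueField y))) :=
    MorphismProperty.of_isPullback (IsPullback.of_hasPullback f (S.fromSpecResidueField y)) ‹IsProper f›
  haveI : GeometricallyConnected ((f.fiber y) ↘ Spec (CommRingCat.of (S.residueField y))) :=
    MorphismProperty.of_isPullback (IsPullback.of_hasPullback f (S.fromSpecResidueField y))
      ‹GeometricallyConnected f›
  haveI : LocallyOfFiniteType ((f.fiber y) ↘ Spec (CommRingCat.of (S.residueField y))) := inferInstance
  haveI : GeometricallyReduced ((f.fiber y) ↘ Spec (CommRingCat.of (S.residueField y))) :=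
    Node.AtWorst.geometricallyReduced (S.residueField y) (f.fiber y) (hf.2.2 y).2
  refine Eq.trans ?_ (finrank_h0 (S.residueField y) (f.fiber y))
  exact (Curves.LES.isoK (S.residueField y) (PicLoc.pullbackStructureIso (f.fiberι y)).symm 0).symm.finrank_eq

end Groth.Agent.H25.PushOne.Fibre
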