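import Groth.Agent.H25.PushOne.Algebra
import Groth.Agent.Lib.ExchangeFP29.Main
import Groth.Agent.Lib.Exchange.GlobalSections
import Groth.Agent.Lib.TensorMod.Colimit
import Groth.Agent.Lib.Cube.SemiCont
import Groth.Agent.H46.FibreProf.Unit
import Groth.Agent.H26.FreeCrit

/-!
# The first higher direct image of the structure sheaf when the fibres have only constant functions
-/

set_option autoImplicit false
set_option linter.style.haveILetI false
universe u

open CategoryTheory CategoryTheory.Limits AlgebraicGeometry TopologicalSpace Opposite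
open Groth.Agent Groth.Agent.Lib Groth.Agent.Lib.FlatCx.Basic Groth.Agent.Lib.FlatCx.HKer
open _root_.ZarCoh.Exchange
open scoped TensorProduct

namespace Groth.Agent.H25.PushOne.Main

noncomputable section

/-- A map out of the structure module killing `1` is zero. -/
theorem eq_zero_of_one {X : Scheme.{u}} {N : X.Modules} (ψ : Coh.structureModule X ⟶ N)
    (h : ψ.app ⊤ (1 : Γ(X, ⊤)) = 0) : ψ = 0 := by
  refine Scheme.Modules.hom_ext _ _ (fun U => AddCommGrpCat.hom_ext (AddMonoidHom.ext fun s => ?_))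
  have h1 := ψ.mapPresheaf.naturality_apply (homOfLE (le_top (a := U))).op (1 : Γ(X, ⊤))
  rw [show ψ.mapPresheaf.app (op ⊤) (1 : Γ(X, ⊤)) = 0 from h, map_zero] at h1
  have h2 : ψ.app U (1 : Γ(X, U)) = 0 := by
    refine Eq.trans ?_ h1
    exact congrArg (ψ.app U) (map_one (X.presheaf.map (homOfLE (le_top (a := U))).op).hom).symm
  let o : Γ(Coh.structureModule X, U) := (1 : Γ(X, U))
  have hs : s = (show Γ(X, U) from s) • o := (mul_one (show Γ(X, U) from s)).symm
  rw [hs, ψ.app_smul, show ψ.app U o = 0 from h2]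
  exact smul_zero _

variable (A : Type u) [CommRing A] {X : Scheme.{u}} [X.Over (Spec (CommRingCat.of A))]

instance preservesEpi_tensorA (F : X.Modules) :
    (CohIII.tensorAFunctor A F).PreservesEpimorphisms := by
  haveI : (Scheme.Modules.pullback (X ↘ Spec (CommRingCat.of A))).IsLeftAdjoint :=
    (Scheme.Modules.pullbackPushforwardAdjunction _).isLeftAdjoint
  haveI : (tilde.functor (CommRingCat.of A)).IsLeftAdjoint := ⟨_, ⟨tilde.adjunction⟩⟩
  haveI : (TensorMod.Basic.tensorBy F).PreservesEpimorphisms :=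
    preservesEpimorphisms_of_preservesColimitsOfShape _
  haveI : (DCoh.tensorRightMod F).PreservesEpimorphisms := ⟨fun {M N} φ _ =>
    inferInstanceAs (Epi ((TensorMod.Basic.tensorBy F).map φ))⟩
  exact ⟨fun φ _ => inferInstanceAs (Epi ((DCoh.tensorRightMod F).map
    ((Scheme.Modules.pullback (X ↘ Spec (CommRingCat.of A))).map
      ((tilde.functor (CommRingCat.of A)).map φ))))⟩

/-- A natural isomorphism detects vanishing. -/
theorem map_ne_zero {A : Type u} [CommRing A] {T K : ModuleCat.{u} A ⥤ ModuleCat.{u} A}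
    (e : T ≅ K) {M N : ModuleCat.{u} A} (π : M ⟶ N) (σ : K.obj M) (h : K.map π σ ≠ 0) :
    T.map π (e.inv.app M σ) ≠ 0 := by
  intro h0
  have h1 := ConcreteCategory.congr_hom (e.inv.naturality π) σ
  have h2 : e.inv.app N (K.map π σ) = 0 := h1.trans h0
  apply h
  have h3 := ConcreteCategory.congr_hom (e.inv_hom_id_app N) (K.map π σ)
  exact h3.symm.trans ((congrArg (e.hom.app N) h2).trans (map_zero _))

/-- A section as a global section over the base. -/
def gsec {G : X.Modules} (s : Γ(G, ⊤)) : (CohIII.globalSectionsA A).obj G := s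

/-- An epimorphism killing a generating section has zero target. -/
theorem isZero_of_map_gsec {G N : X.Modules} (i : G ≅ Coh.structureModule X)
    (φ : G ⟶ N) [Epi φ]
    (h : (CohIII.globalSectionsA A).map φ (gsec A (i.inv.app ⊤ (1 : Γ(X, ⊤)))) = 0) :
    IsZero N := by
  have h1 : φ.app ⊤ (i.inv.app ⊤ (1 : Γ(X, ⊤))) = 0 := h
  have h3 : i.inv ≫ φ = 0 := eq_zero_of_one _ h1
  have hφ : φ = 0 := by rw [← cancel_epi i.inv, h3, comp_zero]
  exact IsZero.of_epi_eq_zero φ hφ

/-- A zero module has no global sections. -/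
theorem subsingleton_sections {N : X.Modules} (h : IsZero N) :
    Subsingleton ((CohIII.globalSectionsA A).obj N) := by
  refine subsingleton_of_forall_eq 0 fun x => ?_
  have h1 : (CohIII.globalSectionsA A).map (𝟙 N) x = x := by
    rw [CategoryTheory.Functor.map_id]; rfl
  rw [← h1, show (𝟙 N) = 0 from h.eq_of_src _ _]
  rfl

variable {A} {P : ChainComplex (ModuleCat.{u} A) ℤ}

omit [X.Over (Spec (CommRingCat.of A))] in
/-- A class nonzero in every closed fibre comes from a kernel vector. -/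
theorem exists_vector (z : CohIII.T P 0 (ModuleCat.of A A))
    (hz' : ∀ (m : Ideal A) [m.IsMaximal], (CohIII.TFun P 0).map
      (ModuleCat.ofHom (Algebra.linearMap A m.ResidueField) :
        ModuleCat.of A A ⟶ ModuleCat.of A m.ResidueField) z ≠ 0) :
    ∃ c : Q P 0, Dbar P 0 (-1) c = 0 ∧
      ∀ (m : Ideal A) [m.IsMaximal], (1 : m.ResidueField) ⊗ₜ[A] c ≠ 0 := by
  have hn : ((-1 : ℤ)) + 1 = 0 := rfl
  obtain ⟨⟨z₀, hz₀⟩, hz⟩ := FlatCx.Elem.cls_surjective (K := CohIII.tensorObj P (ModuleCat.of A A))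
    (next_eq hn) z
  let w : P.X 0 := TensorProduct.rid A (P.X 0) z₀
  have hzw : z₀ = w ⊗ₜ[A] (1 : A) := by
    show z₀ = (TensorProduct.rid A (P.X 0)) z₀ ⊗ₜ[A] (1 : A)
    rw [← TensorProduct.rid_symm_apply, LinearEquiv.symm_apply_apply]
  refine ⟨Submodule.Quotient.mk w, ?_, fun m hm h0 => hz' m ?_⟩
  · have h1 : (D P 0 (-1)).rTensor A z₀ = 0 := hz₀
    rw [hzw, LinearMap.rTensor_tmul] at h1
    rw [Dbar_mk]
    have := congrArg (TensorProduct.rid A (P.X (-1))) h1
    simpa using this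
  let π : ModuleCat.of A A ⟶ ModuleCat.of A m.ResidueField :=
    ModuleCat.ofHom (Algebra.linearMap A m.ResidueField)
  show (CohIII.TFun P 0).map π z = 0
  rw [← hz, TFun_map]
  have hz₁ : (CohIII.tensorObj P (ModuleCat.of A m.ResidueField)).d 0 (-1)
      ((CohIII.tensorMap P π).f 0 z₀) = 0 := by
    rw [← ConcreteCategory.comp_apply, (CohIII.tensorMap P π).comm, ConcreteCategory.comp_apply,
      show (CohIII.tensorObj P (ModuleCat.of A A)).d 0 (-1) z₀ = 0 from hz₀, map_zero]
  refine (FlatCx.Elem.homologyMap_cls _ (next_eq hn) ⟨z₀, hz₀⟩ ⟨_, hz₁⟩ rfl).trans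
    ((FlatCx.Elem.cls_eq_zero_iff (prev_eq 0) (next_eq hn) _).2 ?_)
  have h2 : (Bd P 0).mkQ.rTensor m.ResidueField ((CohIII.tensorMap P π).f 0 z₀) = 0 := by
    rw [tensorMap_f, hzw, LinearMap.lTensor_tmul, LinearMap.rTensor_tmul]
    show (Submodule.Quotient.mk w : Q P 0) ⊗ₜ[A] (algebraMap A m.ResidueField 1) = 0
    rw [map_one]
    apply (TensorProduct.comm A (Q P 0) m.ResidueField).injective
    rw [map_zero, TensorProduct.comm_tmul]
    exact h0
  obtain ⟨y, hy⟩ := (mkQ_rTensor_eq_zero_iff P m.ResidueField 0 _).1 h2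
  exact ⟨y, hy⟩

/-- The unit section maps to a nonzero class in every fibre. -/
theorem exists_cycle
    (e : CohIII.TFun P 0 ⋙ forget₂ (ModuleCat.{u} A) AddCommGrpCat.{u} ≅
      CohIII.tensorAFunctor A (Coh.structureModule X) ⋙ CohIII.HAb X 0)
    (hne : ∀ (m : Ideal A) [m.IsMaximal],
      ¬ Subsingleton (CohIII.T P 0 (ModuleCat.of A m.ResidueField))) :
    ∃ c : Q P 0, Dbar P 0 (-1) c = 0 ∧
      ∀ (m : Ideal A) [m.IsMaximal], (1 : m.ResidueField) ⊗ₜ[A] c ≠ 0 := by
  let i := ZarCoh.Exchange.Main.oneIso A (Coh.structureModule X)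
  let n := GlobalSections.natIso (T := CohIII.TFun P 0) (Coh.structureModule X) e
  refine exists_vector (n.inv.app (ModuleCat.of A A)
    (gsec A (i.inv.app ⊤ (1 : Γ(X, ⊤))))) fun m hm => map_ne_zero n _ _ fun h => hne m ?_
  haveI : Epi (ModuleCat.ofHom (Algebra.linearMap A m.ResidueField) :
      ModuleCat.of A A ⟶ ModuleCat.of A m.ResidueField) :=
    (ModuleCat.epi_iff_surjective _).2 (Ideal.algebraMap_residueField_surjective m)
  have hz := isZero_of_map_gsec A i
    ((CohIII.tensorAFunctor A (Coh.structureModule X)).map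
      (ModuleCat.ofHom (Algebra.linearMap A m.ResidueField) :
        ModuleCat.of A A ⟶ ModuleCat.of A m.ResidueField)) h
  exact @Equiv.subsingleton _ _ (n.app (ModuleCat.of A m.ResidueField)).toLinearEquiv.toEquiv
    (subsingleton_sections A hz)

/-- The cokernel below degree zero is flat. -/
theorem flat_Q (hP : ExchangeFP29.Algebra.IsGood P)
    (e : CohIII.TFun P 0 ⋙ forget₂ (ModuleCat.{u} A) AddCommGrpCat.{u} ≅
      CohIII.tensorAFunctor A (Coh.structureModule X) ⋙ CohIII.HAb X 0)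
    (hd : ∀ x, CohIII.dRank P 0 x = 1) : Module.Flat A (Q P (-1)) := by
  haveI := hP.finite 0
  haveI := hP.finite (-1)
  haveI := (hP.fin (-1)).2
  have hn : ((-1 : ℤ)) + 1 = 0 := rfl
  obtain ⟨c, hc, h1⟩ := exists_cycle e fun m hm hsub => by
    have h := (Cube.SemiCont.dRank_eq_zero_iff P (fun i => (hP.fin i).1) 0 ⟨m, hm.isPrime⟩).2 hsub
    rw [hd] at h
    exact one_ne_zero h
  haveI : Module.Projective A (P.X (-1) ⧸ LinearMap.range (Dbar P 0 (-1))) :=
    Algebra.projective_coker_of_line (Dbar P 0 (-1)) c hc fun m hm =>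
      ⟨h1 m, (Cube.SemiCont.dRank_eq P 0 (-1) hn ⟨m, hm.isPrime⟩).symm.trans (hd _)⟩
  exact Module.Flat.of_linearEquiv (Submodule.quotEquivOfEq _ _ (range_Dbar P hn)).symm

variable {X S : Scheme.{u}} (f : X ⟶ S)

/-- **`R¹f_*O` is locally free** when the fibres have only constant functions and no `H²`. -/
theorem isFinLocFree_Rpush_one [IsProper f] [LocallyOfFinitePresentation f] [Flat f]
    [HasInjectiveResolutions X.Modules]
    (h0 : ∀ y, CohIII.fiberRank f (Coh.structureModule X) 0 y = 1)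
    (h2 : ∀ y, CohIII.fiberRank f (Coh.structureModule X) 2 y = 0) :
    FlatMod.IsFinLocFree ((Coh.Rpush f 1).obj (Coh.structureModule X)) := by
  have hF := H46.FibreProf.Unit.isFP_structureModule X
  haveI := H26.FreeCrit.isQuasicoherent_of_isFP hF
  have hfl : FlatMod.IsFlatOver f (Coh.structureModule X) := fun x =>
    (H46.FibreProf.Unit.isFlatOverAt_structureModule f x).2 (Flat.stalkMap f x)
  refine TensorMod.TensorInv.isFinLocFree_of_locally fun y => ?_
  obtain ⟨V, hV, hyV, -⟩ := exists_isAffineOpen_mem_and_subset (x := y) (U := (⊤ : S.Opens)) trivial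
  haveI : IsAffine (V : Scheme.{u}) := hV
  obtain ⟨P, hP, he, hr, hz⟩ := ExchangeFP29.Main.exists_of_vanish f _ hF hfl V
  obtain ⟨e₀⟩ := he 0
  obtain ⟨e₁⟩ := he 1
  have hq : Module.Flat (Local.AV V) (Q P (-((1 : ℕ) : ℤ) - 1)) := by
    have h := (hz 2 fun z _ => h2 z).2.1
    rwa [show -((2 : ℕ) : ℤ) = -((1 : ℕ) : ℤ) - 1 by norm_num] at h
  have hp : Module.Flat (Local.AV V) (Q P (-((1 : ℕ) : ℤ))) := by
    have e₀' : CohIII.TFun P 0 ⋙ forget₂ (ModuleCat.{u} (Local.AV V)) AddCommGrpCat.{u} ≅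
        CohIII.tensorAFunctor (Local.AV V) (Coh.structureModule (Local.XV f V)) ⋙
          CohIII.HAb (Local.XV f V) 0 := e₀ ≪≫ Functor.isoWhiskerRight
        (ExchangeFP29.Rep.tensorCongr (Local.AV V)
          (((Scheme.Modules.restrictFunctorIsoPullback (f ⁻¹ᵁ V).ι).app (Coh.structureModule X)) ≪≫
            PicLoc.pullbackStructureIso (f ⁻¹ᵁ V).ι)) _
    have h := flat_Q hP e₀' fun x => by
      have := hr 0 x
      rw [h0] at this
      exact this.symm
    rwa [show -((1 : ℕ) : ℤ) = -1 by norm_num]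
  obtain ⟨W, hW, ⟨j⟩⟩ := ExchangeFP29.Main.exists_free_nhd f _ 1 hP e₁ hp hq hyV
  exact ⟨W, hW, TensorMod.LocFree.of_iso j.symm
    (TensorMod.LocFree.of_rank (TensorMod.LocFree.isFinLocFree_freeMod _ _))⟩

end

end Groth.Agent.H25.PushOne.Main
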